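import Cfsg.Agent.Lib.SmallGroups.Order459648.Proj
import Cfsg.Agent.Lib.SmallGroups.BrauerFew.TuanSetup
import Mathlib

/-!
The local structure at the prime `19` of a simple group of order `459648`, and the values of small
characters on central involutions of the Sylow centraliser.
-/

set_option autoImplicit false

namespace CfsgLib.SmallGroups.Order459648

open Subgroup CfsgLib.InvolChar

theorem sylow_candidates {n : ℕ} (h : n ∣ 2 ^ 7 * (3 ^ 3 * 7)) (h19 : n % 19 = 1) :
    n = 1 ∨ n = 96 ∨ n = 1008 := by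
  obtain ⟨a, b', ha, hb', rfl⟩ := Nat.dvd_mul.mp h
  obtain ⟨b, c, hb, hc, rfl⟩ := Nat.dvd_mul.mp hb'
  obtain ⟨i, hi, rfl⟩ := (Nat.dvd_prime_pow Nat.prime_two).mp ha
  obtain ⟨j, hj, rfl⟩ := (Nat.dvd_prime_pow Nat.prime_three).mp hb
  rcases (Nat.dvd_prime (by norm_num : Nat.Prime 7)).mp hc with rfl | rfl <;>
    interval_cases i <;> interval_cases j <;> omega

theorem card_centralizer_mul_relIndex {G : Type*} [Group G] (P : Subgroup G) :
    Nat.card (centralizer (P : Set G)) *
      (centralizer (P : Set G)).relIndex (normalizer (P : Set G)) =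
      Nat.card (normalizer (P : Set G)) := by
  have h := ((centralizer (P : Set G)).subgroupOf (normalizer (P : Set G))).card_mul_index
  rwa [Nat.card_congr (subgroupOfEquivOfLe (centralizer_le_normalizer' P)).toEquiv] at h

variable {G : Type*} [Group G] [Fintype G] [IsSimpleGroup G] [hp : Fact (Nat.Prime 19)]

theorem local_facts (hcard : Nat.card G = 459648) (hna : ¬ IsMulCommutative G) (P : Sylow 19 G) :
    Nat.card (P : Subgroup G) = 19 ∧ ∃ e t : ℕ,
      (centralizer ((P : Subgroup G) : Set G)).relIndex (normalizer ((P : Subgroup G) : Set G)) = e ∧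
      18 = e * t ∧ (e = 2 ∨ e = 3 ∨ e = 6 ∨ e = 9 ∨ e = 18) ∧
      2 ∣ Nat.card (centralizer ((P : Subgroup G) : Set G)) := by
  have hG' : Nat.card G = 19 ^ 1 * 24192 := by rw [hcard]; norm_num
  have hnd : ¬ 19 ∣ 24192 := by norm_num
  have hdvd : 19 ∣ Nat.card G := by rw [hcard]; norm_num
  have hP : Nat.card (P : Subgroup G) = 19 := by
    have := CfsgLib.SmallGroups.card_sylow_eq hG' hnd P
    simpa using this
  refine ⟨hP, ?_⟩
  set C := centralizer ((P : Subgroup G) : Set G) with hC
  set N := normalizer ((P : Subgroup G) : Set G) with hN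
  obtain ⟨t, ht⟩ : C.relIndex N ∣ 19 - 1 := CfsgLib.Blocks.PrimeSylow.relIndex_dvd P hP
  refine ⟨C.relIndex N, t, rfl, ht, ?_, ?_⟩
  all_goals
    have he1 : C.relIndex N ≠ 1 := fun h => not_normalizer_le_centralizer hna hdvd P (relIndex_eq_one.mp h)
    obtain ⟨e, he⟩ : ∃ e, C.relIndex N = e := ⟨_, rfl⟩
    rw [he] at ht he1
    have hcases : e = 2 ∨ e = 3 ∨ e = 6 ∨ e = 9 ∨ e = 18 := by
      have key : ∀ d ∈ Nat.divisors 18, d ≠ 1 → d = 2 ∨ d = 3 ∨ d = 6 ∨ d = 9 ∨ d = 18 := by decide
      exact key e (Nat.mem_divisors.mpr ⟨Dvd.intro t ht.symm, by norm_num⟩) he1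
  · rw [he]; exact hcases
  · have hn : Nat.card (Sylow 19 G) = N.index := P.card_eq_index_normalizer
    have hmod : Nat.card (Sylow 19 G) % 19 = 1 := card_sylow_modEq_one 19 G
    have hNd : N.index ∣ 24192 := by
      have h1 : N.index * 19 ∣ Nat.card G := by
        rw [← N.index_mul_card]
        exact Nat.mul_dvd_mul_left _ (hP ▸ card_dvd_of_le le_normalizer)
      rw [hcard, show (459648 : ℕ) = 24192 * 19 by norm_num] at h1
      exact Nat.dvd_of_mul_dvd_mul_right (by norm_num) h1
    have hne : N.index ≠ 1 := by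
      intro h
      rw [index_eq_one] at h
      haveI : (P : Subgroup G).Normal := normalizer_eq_top_iff.mp h
      rcases Subgroup.Normal.eq_bot_or_eq_top (H := (P : Subgroup G)) inferInstance with h' | h'
      · rw [h', card_bot] at hP; norm_num at hP
      · rw [h', card_top, hcard] at hP; norm_num at hP
    have hCN : Nat.card C * e * N.index = 459648 := by
      rw [← hcard, ← N.index_mul_card, mul_comm N.index]
      congr 1
      rw [← he, hC, hN, card_centralizer_mul_relIndex]
    have hcand := sylow_candidates (n := N.index) (by norm_num; exact hNd) (hn ▸ hmod)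
    rcases hcand with h | h | h
    · exact absurd h hne
    all_goals
      rw [h] at hCN
      rcases hcases with rfl | rfl | rfl | rfl | rfl <;> omega

variable {χ : Cfsg.IrrCharacter G}

/-- Values of a block character on an involution of the centraliser. -/
theorem involution_value (hna : ¬ IsMulCommutative G) (hne : χ ≠ CfsgLib.Char.irrOne) {P : Subgroup G}
    (hP : Nat.card P = 19) {δ : ℤ} (hPval : ∀ u ∈ P, u ≠ 1 → (χ : G → ℂ) u = (δ : ℂ)) {v : G}
    (hv : orderOf v = 2) (hcomm : ∀ u ∈ P, u * v = v * u)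
    (hvval : ∀ u ∈ P, u ≠ 1 → (χ : G → ℂ) (u * v) = (δ : ℂ)) :
    ∃ c : ℤ, (χ : G → ℂ) v = (c : ℂ) ∧ c ≠ deg χ ∧ |c| ≤ (deg χ : ℤ) ∧ (4 : ℤ) ∣ (deg χ : ℤ) - c ∧
      (38 : ℤ) ∣ (deg χ : ℤ) + c + 36 * δ ∧ 0 ≤ (deg χ : ℤ) + c + 36 * δ := by
  classical
  have hvv : v * v = 1 := by rw [← pow_two, ← hv, pow_orderOf_eq_one]
  obtain ⟨c, hc, -, hcb⟩ := exists_int_value χ hvv
  refine ⟨c, hc, ?_, hcb, four_dvd_sub (commutator_eq_top_of_simple hna) χ hvv hc, ?_⟩
  · intro h
    have := CfsgLib.SmallGroups.BrauerFew.eq_one_of_value_eq_degree hne (y := v)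
      (by rw [hc, deg_spec χ, h, Int.cast_natCast])
    rw [this, orderOf_one] at hv
    omega
  obtain ⟨k, hk⟩ := exists_nat_double_sum (CfsgLib.Char.isCharacter_of_isIrr χ.2) P (zpowers v)
    (fun h hh w hw => by
      obtain ⟨i, rfl⟩ := mem_zpowers_iff.mp hw
      exact ((show Commute h v from hcomm h hh).zpow_right i).eq)
  rw [Finset.sum_congr rfl fun (h : P) _ => sum_zpowers_involution hv (fun w => (χ : G → ℂ) ((h : G) * w)),
    ← Finset.add_sum_erase _ _ (Finset.mem_univ (1 : P))] at hk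
  simp only [OneMemClass.coe_one, mul_one, one_mul] at hk
  rw [Finset.sum_congr rfl (g := fun _ => (2 : ℂ) * δ) fun (h : P) hh => by
      have h1 : (h : G) ≠ 1 := fun e => Finset.ne_of_mem_erase hh (Subtype.ext e)
      rw [hPval h h.2 h1, hvval h h.2 h1]; ring,
    Finset.sum_const, Finset.card_erase_of_mem (Finset.mem_univ _), Finset.card_univ,
    ← Nat.card_eq_fintype_card, hP, Nat.card_zpowers, hv, deg_spec χ, hc] at hk
  have hk' : (deg χ : ℤ) + c + 36 * δ = 38 * k := by
    apply Int.cast_injective (α := ℂ)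
    push_cast at hk ⊢
    simp only [nsmul_eq_mul] at hk
    push_cast at hk
    linear_combination hk
  exact ⟨⟨k, hk'⟩, by rw [hk']; positivity⟩

end CfsgLib.SmallGroups.Order459648
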