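import Cfsg.Agent.Lib.SmallGroups.Order459648.Local
import Mathlib

/-!
No simple group has order `459648 = 2 ^ 7 * 3 ^ 3 * 7 * 19`.
-/

set_option autoImplicit false

namespace CfsgLib.SmallGroups.Order459648

open Subgroup CfsgLib.InvolChar CfsgLib.Blocks CfsgLib.Blocks.PrimeSylow Cfsg

theorem degree_list : ∀ d ∈ List.range 678, 459648 % d = 0 → (d % 19 = 1 ∨ d % 19 = 18) →
    d = 1 ∨ d = 18 ∨ d = 56 ∨ d = 96 ∨ d = 189 := by decide +kernel

/-- The possible numbers of characters of degree `56`, `96`, `189` in the principal block. -/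
theorem solutions : ∀ e ∈ [2, 3, 6, 9, 18], ∀ b ∈ List.range e, ∀ c ∈ List.range (e - b),
    (1 + 96 * (c : ℤ) - 56 * (b : ℤ) - 189 * ((e - 1 - b - c : ℕ) : ℤ)).natAbs < 678 →
    459648 % (1 + 96 * (c : ℤ) - 56 * (b : ℤ) - 189 * ((e - 1 - b - c : ℕ) : ℤ)).natAbs = 0 →
    (e = 6 ∧ b = 2 ∧ c = 2) ∨ (e = 9 ∧ b = 5 ∧ c = 3) ∨
      (1 ≤ b ∧ 1 ≤ e - 1 - b - c ∧ (e = 9 ∨ e = 18)) := by decide +kernel

theorem solutions_zero : ∀ b ∈ List.range 19, ∀ c ∈ List.range (19 - b),
    1 + 96 * (c : ℤ) - 56 * (b : ℤ) - 189 * ((18 - b - c : ℕ) : ℤ) = 0 →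
    1 ≤ b ∧ 1 ≤ 18 - b - c := by decide +kernel

theorem dvd_mul_of_isIntegral {K d : ℕ} {c : ℤ} (hd : d ≠ 0)
    (h : IsIntegral ℤ ((K : ℂ) * (c : ℂ) / (d : ℂ))) : (d : ℤ) ∣ (K : ℤ) * c := by
  obtain ⟨z, hz⟩ := CfsgLib.Char.exists_int_of_isIntegral_rat (q := (K : ℚ) * c / d)
    (by push_cast; exact h)
  refine ⟨z, ?_⟩
  rw [div_eq_iff (by exact_mod_cast hd)] at hz
  have : ((K : ℤ) : ℚ) * c = z * (d : ℤ) := by push_cast; exact hz
  have h' : (K : ℤ) * c = z * (d : ℤ) := by exact_mod_cast this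
  rw [h', mul_comm]

theorem false_of_simple {G : Type*} [Group G] [Fintype G] [IsSimpleGroup G]
    (hcard : Nat.card G = 459648) (hna : ¬ IsMulCommutative G) : False := by
  classical
  haveI : Fact (Nat.Prime 19) := ⟨by norm_num⟩
  obtain ⟨P⟩ : Nonempty (Sylow 19 G) := inferInstance
  obtain ⟨hP, e, t, he, het, hecases, hC2⟩ := local_facts hcard hna P
  have hperf : commutator G = ⊤ := commutator_eq_top_of_simple hna
  set C := centralizer ((P : Subgroup G) : Set G) with hCdef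
  set N := normalizer ((P : Subgroup G) : Set G) with hNdef
  haveI : Fact (Nat.Prime 2) := ⟨Nat.prime_two⟩
  obtain ⟨M, hM⟩ := CfsgLib.Invol.exists_isPModular 19 (by norm_num)
  haveI := hM.2.1
  obtain ⟨X, Y, hB, hXY, hXc, hYc, -, εX, ε, hX, hε, hYdeg, -, hYrel⟩ :=
    principal_block_prime_sylow P hM hP e he
  have ht' : (19 - 1) / e = t := by
    rw [show 19 - 1 = e * t by omega, Nat.mul_div_cancel_left _ (by omega)]
  rw [ht'] at hYc
  set one : Cfsg.IrrCharacter G := CfsgLib.Char.irrOne with hone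
  set Xf : Finset (Cfsg.IrrCharacter G) := Finset.univ.filter (· ∈ X) with hXfdef
  have hXf : ∀ χ, χ ∈ Xf ↔ χ ∈ X := fun χ => by simp [Xf]
  have hXcard : Xf.card = e := by rw [← hXc, Nat.card_eq_fintype_card, Fintype.card_subtype]
  have hv1 : ∀ v : G, orderOf v = 2 → ¬ 19 ∣ orderOf v := fun v hv h => by rw [hv] at h; omega
  have hcomm : ∀ v ∈ C, ∀ u ∈ (P : Subgroup G), u * v = v * u := fun v hv u hu =>
    (mem_centralizer_iff.mp hv u hu)
  have hP1 : ∀ χ ∈ Xf, ∀ u ∈ (P : Subgroup G), u ≠ 1 → (χ : G → ℂ) u = (εX χ : ℂ) := by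
    intro χ hχ u hu h1
    have := (hX χ ((hXf χ).mp hχ)).2.2 u hu h1 1 (one_mem _) (by rw [orderOf_one]; norm_num)
    rwa [mul_one] at this
  have hP2 : ∀ χ ∈ Xf, ∀ v ∈ C, orderOf v = 2 → ∀ u ∈ (P : Subgroup G), u ≠ 1 →
      (χ : G → ℂ) (u * v) = (εX χ : ℂ) := fun χ hχ v hv hv2 u hu h1 =>
    (hX χ ((hXf χ).mp hχ)).2.2 u hu h1 v hv (hv1 v hv2)
  -- an involution in the centraliser
  obtain ⟨y₀, hy₀⟩ := exists_prime_orderOf_dvd_card' 2 hC2
  have hy₀2 : orderOf (y₀ : G) = 2 := by rw [Subgroup.orderOf_coe, hy₀]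
  -- degrees and signs
  have hdeg : ∀ χ ∈ Xf, χ ≠ one → (deg χ = 56 ∧ εX χ = -1) ∨ (deg χ = 96 ∧ εX χ = 1) ∨
      (deg χ = 189 ∧ εX χ = -1) := by
    intro χ hχ hne
    obtain ⟨hs, hmod, -⟩ := hX χ ((hXf χ).mp hχ)
    rw [CfsgLib.SmallGroups.BrauerFew.deg_eq_charDegree] at hmod
    have hmod' : (19 : ℤ) ∣ εX χ - (deg χ : ℤ) := hmod.dvd
    have hd2 := CfsgLib.SmallGroups.BrauerFew.one_lt_deg hperf hne
    have hdvd : deg χ ∣ 459648 := hcard ▸ CfsgLib.Char.degree_dvd_card χ.2 (deg_spec χ)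
    have hsq := CfsgLib.SmallGroups.BrauerFew.sum_deg_sq_le (S := {χ}) (by simpa using Ne.symm hne)
    rw [Finset.sum_singleton, hcard] at hsq
    have hlt : deg χ < 678 := by nlinarith
    have hl := degree_list _ (List.mem_range.mpr hlt) (Nat.mod_eq_zero_of_dvd hdvd) (by
      rcases hs with h | h <;> rw [h] at hmod' <;> omega)
    rcases hl with h | h | h | h | h
    · omega
    · exfalso
      have hσ : εX χ = -1 := by
        rcases hs with hs' | hs'
        · rw [hs', h] at hmod'; omega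
        · exact hs'
      have hsum : ∑ u : (P : Subgroup G), (χ : G → ℂ) u = ((19 : ℕ) : ℂ) * ((0 : ℕ) : ℂ) := by
        rw [← Finset.add_sum_erase _ _ (Finset.mem_univ (1 : (P : Subgroup G))),
          Finset.sum_congr rfl (g := fun _ => (-1 : ℂ)) fun (u : (P : Subgroup G)) hu => by
            rw [hP1 χ hχ u u.2 fun e => Finset.ne_of_mem_erase hu (Subtype.ext e), hσ]; simp,
          Finset.sum_const, Finset.card_erase_of_mem (Finset.mem_univ _), Finset.card_univ,
          ← Nat.card_eq_fintype_card, hP, OneMemClass.coe_one, deg_spec χ, h]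
        norm_num
      have hy := CfsgLib.SmallGroups.BrauerFew.mem_kernel_of_few_fixed hP
        (CfsgLib.Char.isCharacter_of_isIrr χ.2) (deg_spec χ) (by omega) (Nat.zero_le 1) hsum
        (hcomm _ y₀.2) (fun u hu h1 => by rw [hP2 χ hχ _ y₀.2 hy₀2 u hu h1, hP1 χ hχ u hu h1])
      rw [CfsgLib.SmallGroups.BrauerFew.eq_one_of_value_eq_degree hne hy, orderOf_one] at hy₀2
      omega
    · exact Or.inl ⟨h, by rcases hs with hs' | hs' <;> rw [hs', h] at hmod' <;> omega⟩
    · exact Or.inr (Or.inl ⟨h, by rcases hs with hs' | hs' <;> rw [hs', h] at hmod' <;> omega⟩)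
    · exact Or.inr (Or.inr ⟨h, by rcases hs with hs' | hs' <;> rw [hs', h] at hmod' <;> omega⟩)
  -- values on involutions of the centraliser
  have hval : ∀ χ ∈ Xf, χ ≠ one → ∀ v ∈ C, orderOf v = 2 → ∃ c : ℤ, (χ : G → ℂ) v = (c : ℂ) ∧
      (deg χ = 56 → c = -20) ∧ (deg χ = 96 → c = 20 ∨ c = -56) ∧
      (deg χ = 189 → c = 113 ∨ c = 37 ∨ c = -39 ∨ c = -115) := by
    intro χ hχ hne v hv hv2
    obtain ⟨c, hc, hcne, hcb, h4, h38, hnn⟩ := involution_value hna hne hP (hP1 χ hχ) hv2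
      (hcomm v hv) (hP2 χ hχ v hv hv2)
    rw [abs_le] at hcb
    refine ⟨c, hc, ?_, ?_, ?_⟩ <;> intro hd <;>
      rcases hdeg χ hχ hne with ⟨h, hs⟩ | ⟨h, hs⟩ | ⟨h, hs⟩ <;>
      rw [h] at hd <;> norm_num at hd <;> rw [h] at hcne hcb h4 h38 hnn <;> rw [hs] at h38 hnn <;>
      push_cast at hcne hcb h4 h38 hnn <;> omega
  -- counting
  set Z := Xf.erase one with hZ
  set A := fun d : ℕ => Z.filter fun χ => deg χ = d with hA
  have hZdeg : ∀ χ ∈ Z, (deg χ = 56 ∧ εX χ = -1) ∨ (deg χ = 96 ∧ εX χ = 1) ∨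
      (deg χ = 189 ∧ εX χ = -1) := fun χ hχ =>
    hdeg χ (Finset.mem_of_mem_erase hχ) (Finset.ne_of_mem_erase hχ)
  have hsplit : ∀ F : Cfsg.IrrCharacter G → ℂ,
      ∑ χ ∈ Z, F χ = ∑ χ ∈ A 56, F χ + (∑ χ ∈ A 96, F χ + ∑ χ ∈ A 189, F χ) := by
    intro F
    simp only [hA, Finset.sum_filter, ← Finset.sum_add_distrib]
    refine Finset.sum_congr rfl fun χ hχ => ?_
    rcases hZdeg χ hχ with ⟨h, -⟩ | ⟨h, -⟩ | ⟨h, -⟩ <;> simp [h]
  set b := (A 56).card with hb
  set c := (A 96).card with hc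
  set d := (A 189).card with hd
  have hbcd : b + c + d = Z.card := by
    have := hsplit (fun _ => 1)
    simp only [Finset.sum_const, nsmul_eq_mul, mul_one] at this
    rw [hb, hc, hd, add_assoc]
    exact_mod_cast this.symm
  have hmemA : ∀ {n : ℕ} {χ : Cfsg.IrrCharacter G}, χ ∈ A n → χ ∈ Xf ∧ χ ≠ one ∧ deg χ = n := by
    intro n χ h
    obtain ⟨h1, h2⟩ := Finset.mem_filter.mp h
    exact ⟨Finset.mem_of_mem_erase h1, Finset.ne_of_mem_erase h1, h2⟩
  have hsA : ∀ χ, (χ ∈ A 56 → εX χ = -1) ∧ (χ ∈ A 96 → εX χ = 1) ∧ (χ ∈ A 189 → εX χ = -1) := by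
    intro χ
    refine ⟨?_, ?_, ?_⟩ <;> intro h <;>
      obtain ⟨h1, h2, h3⟩ := hmemA h <;>
      rcases hdeg χ h1 h2 with ⟨hd', hs⟩ | ⟨hd', hs⟩ | ⟨hd', hs⟩ <;>
      first | exact hs | omega
  have hYrel' : ∀ θ ∈ Y, ∀ g : G, ¬ 19 ∣ orderOf g →
      (ε : ℂ) * (θ : G → ℂ) g = ∑ χ ∈ Xf, (εX χ : ℂ) * (χ : G → ℂ) g := by
    intro θ hθ g hg
    have h := hYrel θ hθ g hg
    rwa [finsum_mem_eq_sum_of_inter_support_eq (t := Xf) _ (by ext χ; simp [Xf])] at h
  have hZdegsum : ∑ χ ∈ Z, (εX χ : ℂ) * (deg χ : ℂ) = -56 * (b : ℂ) + 96 * c - 189 * d := by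
    rw [hsplit]
    rw [Finset.sum_congr rfl (g := fun _ => (-56 : ℂ)) fun χ hχ => by
        rw [(hsA χ).1 hχ, (hmemA hχ).2.2]; norm_num,
      Finset.sum_congr rfl (s₁ := A 96) (g := fun _ => (96 : ℂ)) fun χ hχ => by
        rw [(hsA χ).2.1 hχ, (hmemA hχ).2.2]; norm_num,
      Finset.sum_congr rfl (s₁ := A 189) (g := fun _ => (-189 : ℂ)) fun χ hχ => by
        rw [(hsA χ).2.2 hχ, (hmemA hχ).2.2]; norm_num]
    simp only [Finset.sum_const, nsmul_eq_mul]
    ring
  obtain ⟨g₁, hg₁o, hPg⟩ := exists_zpowers_of_card_prime hP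
  have hg₁1 : g₁ ≠ 1 := fun h => by rw [h, orderOf_one] at hg₁o; omega
  have hεone : one ∈ Xf → εX one = 1 := by
    intro h
    have := hP1 one h g₁ (hPg ▸ mem_zpowers g₁) hg₁1
    rw [hone, CfsgLib.Char.irrOne_apply] at this
    exact_mod_cast this.symm
  have ht0 : 0 < t := by rcases Nat.eq_zero_or_pos t with h | h <;> simp_all
  obtain ⟨θ₀, hθ₀⟩ : Y.Nonempty := by
    rw [Set.nonempty_iff_ne_empty]
    intro h
    rw [h] at hYc
    simp at hYc
    omega
  set f := deg θ₀ with hf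
  have hrel1 : (ε : ℂ) * (f : ℂ) = ∑ χ ∈ Xf, (εX χ : ℂ) * (deg χ : ℂ) := by
    have := hYrel' θ₀ hθ₀ 1 (by rw [orderOf_one]; norm_num)
    simpa only [deg_spec] using this
  -- numerical cases
  have hnum : 1 ≤ b ∧ ((e = 6 ∧ b = 2 ∧ c = 2 ∧ d = 1 ∧ one ∈ Xf) ∨
      (e = 9 ∧ b = 5 ∧ c = 3 ∧ d = 0 ∧ one ∈ Xf) ∨ (1 ≤ d ∧ (e = 9 ∨ e = 18))) := by
    by_cases h1 : one ∈ Xf
    · have hcZ : Z.card = e - 1 := by rw [hZ, Finset.card_erase_of_mem h1, hXcard]
      have hne : θ₀ ≠ one := fun h => Set.disjoint_left.mp hXY ((hXf one).mp h1) (h ▸ hθ₀)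
      have hz : (ε : ℤ) * (f : ℤ) = 1 + 96 * (c : ℤ) - 56 * (b : ℤ) - 189 * (d : ℤ) := by
        apply Int.cast_injective (α := ℂ)
        push_cast
        rw [hrel1, ← Finset.add_sum_erase _ _ h1, ← hZ, hZdegsum, hεone h1, hone, deg_irrOne]
        push_cast
        ring
      have habs : (1 + 96 * (c : ℤ) - 56 * (b : ℤ) - 189 * (d : ℤ)).natAbs = f := by
        rw [← hz, Int.natAbs_mul, Int.natAbs_natCast]
        rcases hε with h | h <;> simp [h]
      have hflt : f < 678 := by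
        have hsq := CfsgLib.SmallGroups.BrauerFew.sum_deg_sq_le (S := {θ₀}) (by simpa using Ne.symm hne)
        rw [Finset.sum_singleton, hcard, ← hf] at hsq
        nlinarith
      have hfd : f ∣ 459648 := hcard ▸ CfsgLib.Char.degree_dvd_card θ₀.2 (deg_spec θ₀)
      have hd' : d = e - 1 - b - c := by omega
      have := solutions e (by simp; omega) b (List.mem_range.mpr (by omega)) c
        (List.mem_range.mpr (by omega)) (by rw [← hd', habs]; exact hflt)
        (by rw [← hd', habs]; exact Nat.mod_eq_zero_of_dvd hfd)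
      rcases this with ⟨h2, h3, h4⟩ | ⟨h2, h3, h4⟩ | ⟨h2, h3, h4⟩
      · exact ⟨by omega, Or.inl ⟨h2, h3, h4, by omega, h1⟩⟩
      · exact ⟨by omega, Or.inr (Or.inl ⟨h2, h3, h4, by omega, h1⟩)⟩
      · exact ⟨h2, Or.inr (Or.inr ⟨by omega, h4⟩)⟩
    · have h1Y : one ∈ Y := by
        have h : one ∈ Cfsg.principalBlock M G := irrOne_mem_principalBlock
        rw [hB] at h
        exact h.resolve_left fun h' => h1 ((hXf one).mpr h')
      have hcZ : Z.card = e := by rw [hZ, Finset.erase_eq_self.mpr h1, hXcard]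
      have hY1 : Y = {one} := by
        refine Set.eq_singleton_iff_unique_mem.mpr ⟨h1Y, fun θ hθ => ?_⟩
        by_contra hne
        have := CfsgLib.SmallGroups.BrauerFew.one_lt_deg hperf hne
        have h := (hYrel' θ hθ 1 (by rw [orderOf_one]; norm_num)).trans
          (hYrel' one h1Y 1 (by rw [orderOf_one]; norm_num)).symm
        simp only [deg_spec, hone, deg_irrOne] at h
        rw [mul_right_inj' (by rcases hε with h' | h' <;> simp [h'])] at h
        have : deg θ = 1 := by exact_mod_cast h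
        omega
      have he18 : e = 18 := by
        rw [hY1] at hYc
        simp at hYc
        rw [← hYc, mul_one] at het
        omega
      have hεneg : ε = -1 := by
        have h := hYdeg one h1Y
        rw [CfsgLib.SmallGroups.BrauerFew.deg_eq_charDegree, hone, deg_irrOne, he18] at h
        have h' := h.dvd
        rcases hε with h'' | h''
        · rw [h''] at h'; norm_num at h'
        · exact h''
      have hz : 1 + 96 * (c : ℤ) - 56 * (b : ℤ) - 189 * (d : ℤ) = 0 := by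
        have h := hYrel' one h1Y 1 (by rw [orderOf_one]; norm_num)
        simp only [deg_spec, hone, deg_irrOne, hεneg] at h
        rw [show Xf = Z by rw [hZ, Finset.erase_eq_self.mpr h1], hZdegsum] at h
        apply Int.cast_injective (α := ℂ)
        push_cast at h ⊢
        linear_combination -h
      have hd' : d = 18 - b - c := by omega
      obtain ⟨h2, h3⟩ := solutions_zero b (List.mem_range.mpr (by omega)) c
        (List.mem_range.mpr (by omega)) (by rw [← hd']; exact hz)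
      exact ⟨h2, Or.inr (Or.inr ⟨by omega, Or.inr he18⟩)⟩
  obtain ⟨hb1, hcases⟩ := hnum
  obtain ⟨χ₅₆, hχ₅₆⟩ : (A 56).Nonempty := Finset.card_pos.mp hb1
  obtain ⟨h56X, h56ne, h56d⟩ := hmemA hχ₅₆
  have h56 : ∀ v ∈ C, orderOf v = 2 → (χ₅₆ : G → ℂ) v = -20 := by
    intro v hv hv2
    obtain ⟨c', hc', h, -, -⟩ := hval _ h56X h56ne v hv hv2
    rw [hc', h h56d]; norm_num
  -- no two commuting involutions in the centraliser
  have huniq : ∀ x ∈ C, ∀ z ∈ C, orderOf x = 2 → orderOf z = 2 → x * z = z * x → x = z := by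
    intro x hx z hz hx2 hz2 hxz
    by_contra hne
    have hxx : x * x = 1 := by rw [← pow_two, ← hx2, pow_orderOf_eq_one]
    have hzz : z * z = 1 := by rw [← pow_two, ← hz2, pow_orderOf_eq_one]
    have hxz2 : orderOf (x * z) = 2 := orderOf_eq_prime
      (by rw [pow_two, mul_assoc, ← mul_assoc z, ← hxz, mul_assoc x z z, hzz, mul_one, hxx])
      (fun h => hne (by rw [← mul_one x, ← hzz, ← mul_assoc, h, one_mul]))
    obtain ⟨k, hk⟩ := exists_nat_double_sum (CfsgLib.Char.isCharacter_of_isIrr χ₅₆.2) (zpowers x)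
      (zpowers z) (fun h hh w hw => by
        obtain ⟨i, rfl⟩ := mem_zpowers_iff.mp hh
        obtain ⟨j, rfl⟩ := mem_zpowers_iff.mp hw
        exact (((show Commute x z from hxz).zpow_left i).zpow_right j).eq)
    rw [sum_zpowers_involution hx2 (fun h => ∑ w : zpowers z, (χ₅₆ : G → ℂ) (h * w)),
      sum_zpowers_involution hz2 (fun w => (χ₅₆ : G → ℂ) (1 * w)),
      sum_zpowers_involution hz2 (fun w => (χ₅₆ : G → ℂ) (x * w)), one_mul, one_mul, mul_one,
      deg_spec, h56d, h56 z hz hz2, h56 x hx hx2, h56 _ (mul_mem hx hz) hxz2, Nat.card_zpowers,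
      Nat.card_zpowers, hx2, hz2] at hk
    have hk' : (56 : ℤ) + -20 + (-20 + -20) = 2 * 2 * (k : ℤ) := by
      apply Int.cast_injective (α := ℂ)
      push_cast at hk ⊢
      linear_combination hk
    omega
  -- the central involution of a Sylow subgroup of the centraliser
  obtain ⟨S⟩ : Nonempty (Sylow 2 C) := inferInstance
  have hSne : Nontrivial (S : Subgroup C) := by
    refine Finite.one_lt_card_iff_nontrivial.mp ?_
    rw [S.card_eq_multiplicity]
    exact one_lt_pow₀ (by norm_num) ((Nat.prime_two.dvd_iff_one_le_factorization Nat.card_pos.ne').mp hC2 |> fun h => by omega)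
  haveI : Nontrivial (center (S : Subgroup C)) := S.2.center_nontrivial
  have h2Z : 2 ∣ Nat.card (center (S : Subgroup C)) := by
    obtain ⟨n, hn⟩ := IsPGroup.iff_card.mp (S.2.to_subgroup (center (S : Subgroup C)))
    have := Finite.one_lt_card (α := center (S : Subgroup C))
    rw [hn] at this ⊢
    refine dvd_pow_self 2 ?_
    rintro rfl
    simp at this
  obtain ⟨z, hz⟩ := exists_prime_orderOf_dvd_card' 2 h2Z
  set v : G := (((z : (S : Subgroup C)) : C) : G) with hvdef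
  have hv2 : orderOf v = 2 := by
    rw [hvdef, Subgroup.orderOf_coe, Subgroup.orderOf_coe, Subgroup.orderOf_coe, hz]
  have hvC : v ∈ C := ((z : (S : Subgroup C)) : C).2
  have hSinv : ∀ s : C, s ∈ (S : Subgroup C) → orderOf s = 2 → (s : G) = v := by
    intro s hs hs2
    refine huniq _ s.2 _ hvC (by rw [Subgroup.orderOf_coe, hs2]) hv2 ?_
    have := mem_center_iff.mp z.2 ⟨s, hs⟩
    exact congrArg (fun w : (S : Subgroup C) => ((w : C) : G)) this
  have hconj : ∀ w : C, orderOf w = 2 → ∃ a : C, (a : G) * w * (a : G)⁻¹ = v := by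
    intro w hw
    obtain ⟨Q, hQ⟩ := (IsPGroup.of_card (p := 2) (G := zpowers w) (n := 1)
      (by rw [Nat.card_zpowers, hw, pow_one])).exists_le_sylow
    obtain ⟨a, ha⟩ := MulAction.exists_smul_eq C Q S
    refine ⟨a, hSinv (a * w * a⁻¹) ?_ ?_⟩
    · rw [← ha]
      exact smul_mem_pointwise_smul _ (MulAut.conj a) _ (hQ (mem_zpowers w))
    · rw [show a * w * a⁻¹ = MulAut.conj a w from rfl, MulEquiv.orderOf_eq, hw]
  set φ := (P : Subgroup G).normalizerMonoidHom with hφ
  have hker : φ.ker = C.subgroupOf N := normalizerMonoidHom_ker _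
  set D := (centralizer ({v} : Set G)).subgroupOf N with hD
  have hsurj : ∀ g : N, ∃ h ∈ D, φ h = φ g := by
    intro g
    have hw : (g : G) * v * (g : G)⁻¹ ∈ C := by
      rw [hCdef, mem_centralizer_iff]
      intro u hu
      have hu' : (g : G)⁻¹ * u * g ∈ (P : Subgroup G) := by
        have := (g⁻¹ : N).2 u
        simp only [Subgroup.coe_inv, inv_inv] at this
        exact this.mp hu
      have h := mem_centralizer_iff.mp hvC _ hu'
      calc u * ((g : G) * v * (g : G)⁻¹) = (g : G) * (((g : G)⁻¹ * u * g) * v) * (g : G)⁻¹ := by group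
        _ = (g : G) * (v * ((g : G)⁻¹ * u * g)) * (g : G)⁻¹ := by rw [h]
        _ = _ := by group
    obtain ⟨a, ha⟩ := hconj ⟨_, hw⟩ (by
      rw [← Subgroup.orderOf_coe]
      show orderOf (MulAut.conj (g : G) v) = 2
      rw [MulEquiv.orderOf_eq, hv2])
    set a' : N := ⟨a, centralizer_le_normalizer' _ a.2⟩ with ha'
    refine ⟨a' * g, ?_, ?_⟩
    · rw [hD, mem_subgroupOf, mem_centralizer_singleton_iff]
      have : (a : G) * g * v * ((a : G) * g)⁻¹ = v := by
        rw [mul_inv_rev]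
        conv_rhs => rw [← ha]
        show _ = (a : G) * ((g : G) * v * (g : G)⁻¹) * (a : G)⁻¹
        group
      exact mul_inv_eq_iff_eq_mul.mp this
    · have : φ a' = 1 := by
        rw [← MonoidHom.mem_ker, hker, mem_subgroupOf]
        exact a.2
      rw [map_mul, this, one_mul]
  have h38 : 38 * e ∣ Nat.card (centralizer ({v} : Set G)) := by
    set ψ := φ.comp D.subtype with hψ
    have hrange : Nat.card ψ.range = e := by
      rw [show ψ.range = φ.range by
        ext x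
        constructor
        · rintro ⟨h, rfl⟩; exact ⟨_, rfl⟩
        · rintro ⟨g, rfl⟩
          obtain ⟨h, hh, hφh⟩ := hsurj g
          exact ⟨⟨h, hh⟩, hφh⟩, ← Subgroup.index_ker, hker]
      exact he
    have hg₁C : g₁ ∈ C := by
      rw [hCdef, mem_centralizer_iff]
      intro u hu
      obtain ⟨i, rfl⟩ := mem_zpowers_iff.mp (hPg ▸ hu : u ∈ zpowers g₁)
      exact ((Commute.refl g₁).zpow_left i).eq
    have hcv : Commute g₁ v := hcomm v hvC g₁ (hPg ▸ mem_zpowers g₁)
    have hxC : g₁ * v ∈ C := mul_mem hg₁C hvC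
    have ho : orderOf (g₁ * v) = 38 := by
      rw [hcv.orderOf_mul_eq_mul_orderOf_of_coprime (by rw [hg₁o, hv2]; norm_num), hg₁o, hv2]
    set x' : N := ⟨g₁ * v, centralizer_le_normalizer' _ hxC⟩ with hx'
    have hxD : x' ∈ D := by
      rw [hD, mem_subgroupOf, mem_centralizer_singleton_iff]
      exact (hcv.mul_left (Commute.refl v)).eq
    have hxK : (⟨x', hxD⟩ : D) ∈ ψ.ker := by
      rw [MonoidHom.mem_ker, hψ, MonoidHom.comp_apply, ← MonoidHom.mem_ker, hker, mem_subgroupOf]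
      exact hxC
    have hk : 38 ∣ Nat.card ψ.ker := by
      rw [← ho, show orderOf (g₁ * v) = orderOf (⟨⟨x', hxD⟩, hxK⟩ : ψ.ker) by
        rw [orderOf_mk, orderOf_mk, hx', orderOf_mk]]
      exact orderOf_dvd_natCard _
    have hDle : Nat.card D ∣ Nat.card (centralizer ({v} : Set G)) := by
      have := Subgroup.card_map_of_injective (K := D) N.subtype_injective
      rw [← this]
      exact card_dvd_of_le (by rintro _ ⟨h, hh, rfl⟩; exact hh)
    refine Dvd.dvd.trans ?_ hDle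
    rw [← ψ.ker.card_mul_index, Subgroup.index_ker, hrange]
    exact Nat.mul_dvd_mul_right hk e
  set K := Nat.card {y : G // IsConj v y} with hK
  have hKdvd : K * (38 * e) ∣ 459648 := by
    rw [← hcard, ← CfsgLib.Char.card_isConj_mul_card_centralizer v]
    exact Nat.mul_dvd_mul_left _ h38
  have homega : ∀ (χ : Cfsg.IrrCharacter G) (c' : ℤ), (χ : G → ℂ) v = (c' : ℂ) →
      (deg χ : ℤ) ∣ (K : ℤ) * c' := by
    intro χ c' h
    refine dvd_mul_of_isIntegral (deg_pos χ).ne' ?_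
    have := CfsgLib.Char.isIntegral_classSize_mul_div χ.2 v
    rwa [h, deg_spec] at this
  have h63 : ∀ χ ∈ A 189, 63 ∣ K ∧ ((χ : G → ℂ) v = -39 ∨ 189 ∣ K) := by
    intro χ hχ
    obtain ⟨h1, h2, h3⟩ := hmemA hχ
    obtain ⟨c', hc', -, -, h⟩ := hval _ h1 h2 v hvC hv2
    have hd' := homega χ c' hc'
    rw [h3] at hd'
    push_cast at hd'
    rcases h h3 with rfl | rfl | rfl | rfl
    · exact ⟨by omega, Or.inr (by omega)⟩
    · exact ⟨by omega, Or.inr (by omega)⟩
    · exact ⟨by omega, Or.inl (by rw [hc']; norm_num)⟩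
    · exact ⟨by omega, Or.inr (by omega)⟩
  rcases hcases with ⟨he6, hb2, hc2, hd1, h1⟩ | ⟨he9, hb5, hc3, hd0, h1⟩ | ⟨hd1, he'⟩
  · obtain ⟨χd, hχd⟩ := Finset.card_eq_one.mp (hd.symm.trans hd1)
    obtain ⟨χp, χq, hpq, hχc⟩ := Finset.card_eq_two.mp (hc.symm.trans hc2)
    obtain ⟨hK63, hv39⟩ := h63 χd (by rw [hχd]; exact Finset.mem_singleton_self _)
    rw [he6] at hKdvd
    have hK2016 : K ∣ 2016 := Nat.dvd_of_mul_dvd_mul_right (show 0 < 228 by norm_num)
      (by simpa using hKdvd)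
    have hvd : (χd : G → ℂ) v = -39 := hv39.resolve_right fun h => by
      have := h.trans hK2016
      norm_num at this
    obtain ⟨hp1, hp2, hp3⟩ := hmemA (show χp ∈ A 96 by rw [hχc]; exact Finset.mem_insert_self _ _)
    obtain ⟨hq1, hq2, hq3⟩ := hmemA (show χq ∈ A 96 by
      rw [hχc]; exact Finset.mem_insert_of_mem (Finset.mem_singleton_self _))
    obtain ⟨cp, hcp, -, hcp', -⟩ := hval _ hp1 hp2 v hvC hv2
    obtain ⟨cq, hcq, -, hcq', -⟩ := hval _ hq1 hq2 v hvC hv2
    obtain ⟨g', hg', -, hgb⟩ := exists_int_value θ₀ (x := v) (by rw [← pow_two, ← hv2, pow_orderOf_eq_one])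
    have hrelv := hYrel' θ₀ hθ₀ v (hv1 v hv2)
    rw [← Finset.add_sum_erase _ _ h1, ← hZ, hsplit, hεone h1, hone, CfsgLib.Char.irrOne_apply,
      Finset.sum_congr rfl (g := fun _ => (20 : ℂ)) fun χ hχ => by
        rw [(hsA χ).1 hχ]
        obtain ⟨a1, a2, a3⟩ := hmemA hχ
        obtain ⟨c', hc', h, -, -⟩ := hval _ a1 a2 v hvC hv2
        rw [hc', h a3]; norm_num,
      hχd, hχc, Finset.sum_singleton, Finset.sum_pair hpq, hvd, hcp, hcq,
      (hsA χd).2.2 (by rw [hχd]; exact Finset.mem_singleton_self _),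
      (hsA χp).2.1 (by rw [hχc]; exact Finset.mem_insert_self _ _),
      (hsA χq).2.1 (by rw [hχc]; exact Finset.mem_insert_of_mem (Finset.mem_singleton_self _)),
      Finset.sum_const, ← hb, hb2, hg'] at hrelv
    have hz' : ε * g' = 80 + cp + cq := by
      apply Int.cast_injective (α := ℂ)
      push_cast at hrelv ⊢
      simp only [nsmul_eq_mul] at hrelv
      push_cast at hrelv
      linear_combination hrelv
    have hf' : ε * (f : ℤ) = -108 := by
      apply Int.cast_injective (α := ℂ)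
      push_cast
      rw [hrel1, ← Finset.add_sum_erase _ _ h1, ← hZ, hZdegsum, hεone h1, hone, deg_irrOne, hb2, hc2, hd1]
      push_cast
      ring
    have hom := homega θ₀ g' hg'
    rw [← hf] at hom hgb
    rw [abs_le] at hgb
    have h27 : 27 ∣ K := by
      rcases hε with rfl | rfl
      · omega
      · have hf108 : (f : ℤ) = 108 := by omega
        rw [hf108] at hom hgb
        rcases hcp' hp3 with rfl | rfl <;> rcases hcq' hq3 with rfl | rfl <;>
          first | omega | (rw [show g' = 32 by omega] at hom; omega) |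
            (rw [show g' = -44 by omega] at hom; omega)
    have := h27.trans hK2016
    norm_num at this
  · obtain ⟨χp, χq, χr, hpq, hpr, hqr, hχc⟩ := Finset.card_eq_three.mp (hc.symm.trans hc3)
    have hA189 : A 189 = ∅ := Finset.card_eq_zero.mp (hd.symm.trans hd0)
    have hp := hmemA (show χp ∈ A 96 by rw [hχc]; simp)
    have hq := hmemA (show χq ∈ A 96 by rw [hχc]; simp)
    have hr := hmemA (show χr ∈ A 96 by rw [hχc]; simp)
    obtain ⟨cp, hcp, -, hcp', -⟩ := hval _ hp.1 hp.2.1 v hvC hv2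
    obtain ⟨cq, hcq, -, hcq', -⟩ := hval _ hq.1 hq.2.1 v hvC hv2
    obtain ⟨cr, hcr, -, hcr', -⟩ := hval _ hr.1 hr.2.1 v hvC hv2
    obtain ⟨g', hg', -, hgb⟩ := exists_int_value θ₀ (x := v) (by rw [← pow_two, ← hv2, pow_orderOf_eq_one])
    have hrelv := hYrel' θ₀ hθ₀ v (hv1 v hv2)
    rw [← Finset.add_sum_erase _ _ h1, ← hZ, hsplit, hεone h1, hone, CfsgLib.Char.irrOne_apply,
      Finset.sum_congr rfl (g := fun _ => (20 : ℂ)) fun χ hχ => by
        rw [(hsA χ).1 hχ]
        obtain ⟨a1, a2, a3⟩ := hmemA hχ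
        obtain ⟨c', hc', h, -, -⟩ := hval _ a1 a2 v hvC hv2
        rw [hc', h a3]; norm_num,
      hA189, hχc, Finset.sum_empty, Finset.sum_insert (by simp [hpq, hpr]), Finset.sum_pair hqr,
      hcp, hcq, hcr,
      (hsA χp).2.1 (by rw [hχc]; simp), (hsA χq).2.1 (by rw [hχc]; simp),
      (hsA χr).2.1 (by rw [hχc]; simp), Finset.sum_const, ← hb, hb5, hg'] at hrelv
    have hz' : ε * g' = 101 + cp + cq + cr := by
      apply Int.cast_injective (α := ℂ)
      push_cast at hrelv ⊢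
      simp only [nsmul_eq_mul] at hrelv
      push_cast at hrelv
      linear_combination hrelv
    have hf' : ε * (f : ℤ) = 9 := by
      apply Int.cast_injective (α := ℂ)
      push_cast
      rw [hrel1, ← Finset.add_sum_erase _ _ h1, ← hZ, hZdegsum, hεone h1, hone, deg_irrOne, hb5, hc3, hd0]
      push_cast
      ring
    rw [← hf, abs_le] at hgb
    have hgf : g' = (f : ℤ) := by
      rcases hε with rfl | rfl <;>
        rcases hcp' hp.2.2 with rfl | rfl <;> rcases hcq' hq.2.2 with rfl | rfl <;>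
        rcases hcr' hr.2.2 with rfl | rfl <;> omega
    have hne : θ₀ ≠ one := fun h => Set.disjoint_left.mp hXY ((hXf one).mp h1) (h ▸ hθ₀)
    have := CfsgLib.SmallGroups.BrauerFew.eq_one_of_value_eq_degree hne (y := v)
      (by rw [hg', hgf, deg_spec, Int.cast_natCast])
    rw [this, orderOf_one] at hv2
    omega
  · obtain ⟨χd, hχd⟩ : (A 189).Nonempty := Finset.card_pos.mp hd1
    have h := (Nat.mul_dvd_mul_right (h63 χd hχd).1 (38 * e)).trans hKdvd
    rcases he' with rfl | rfl <;> norm_num at h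

end CfsgLib.SmallGroups.Order459648
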