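import Cfsg.Agent.Lib.SmallGroups.BrauerFew.Local
import Cfsg.Agent.Lib.InvolChar.Basic
import Mathlib

/-!
Sums of characters over commuting subgroups, and the determinant of an involution in a perfect
group.
-/

set_option autoImplicit false

namespace CfsgLib.SmallGroups.Order459648

open CfsgLib.InvolChar

variable {G : Type*} [Group G] [Fintype G]

/-- The sum of a character over a product of two commuting subgroups is a multiple of the product
of the orders. -/
theorem exists_nat_double_sum {χ : G → ℂ} (hχ : Cfsg.IsCharacter G χ) (H W : Subgroup G)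
    [Fintype H] [Fintype W] (hc : ∀ h ∈ H, ∀ w ∈ W, h * w = w * h) :
    ∃ k : ℕ, ∑ h : H, ∑ w : W, χ ((h : G) * w) = (Nat.card H : ℂ) * Nat.card W * k := by
  classical
  obtain ⟨m, ρ, rfl⟩ := hχ
  have hproj : ∀ (L : Subgroup G) [Fintype L],
      (∑ u : L, ρ (u : G)) * (∑ u : L, ρ (u : G)) = (Nat.card L : ℂ) • ∑ u : L, ρ (u : G) := by
    intro L _
    have h : ∀ v : L, ρ (v : G) * (∑ u : L, ρ (u : G)) = ∑ u : L, ρ (u : G) := fun v => by
      rw [Finset.mul_sum]
      refine Fintype.sum_equiv (Equiv.mulLeft v) _ _ fun u => ?_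
      rw [← map_mul]; rfl
    rw [Finset.sum_mul, Finset.sum_congr rfl fun v _ => h v, Finset.sum_const, Finset.card_univ,
      ← Nat.card_eq_fintype_card, ← Nat.cast_smul_eq_nsmul ℂ]
  set A := ∑ u : H, ρ (u : G) with hA
  set B := ∑ u : W, ρ (u : G) with hB
  have hAB : A * B = B * A := by
    rw [hA, hB, Finset.sum_mul_sum, Finset.sum_mul_sum, Finset.sum_comm]
    exact Finset.sum_congr rfl fun w _ => Finset.sum_congr rfl fun h _ => by
      rw [← map_mul, ← map_mul, hc h h.2 w w.2]
  set c : ℂ := (Nat.card H : ℂ) * Nat.card W with hcdef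
  have hc0 : c ≠ 0 := mul_ne_zero (by exact_mod_cast Nat.card_pos.ne') (by exact_mod_cast Nat.card_pos.ne')
  have hsq : (A * B) * (A * B) = c • (A * B) := by
    rw [mul_assoc A B, ← mul_assoc B A, ← hAB, mul_assoc A B B, ← mul_assoc A A, hproj H, hproj W,
      smul_mul_assoc, mul_smul_comm, smul_smul, hcdef]
  set f := c⁻¹ • (A * B) with hf
  have hff : f * f = f := by
    rw [hf, smul_mul_assoc, mul_smul_comm, hsq, smul_smul, smul_smul]
    congr 1
    field_simp
  have hP : LinearMap.IsProj (LinearMap.range f) f :=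
    ⟨fun v => LinearMap.mem_range_self f v, fun v hv => by
      obtain ⟨w, rfl⟩ := hv
      exact LinearMap.congr_fun hff w⟩
  refine ⟨Module.finrank ℂ (LinearMap.range f), ?_⟩
  have h0 := LinearMap.IsProj.trace hP
  rw [hf, map_smul, smul_eq_mul, inv_mul_eq_iff_eq_mul₀ hc0] at h0
  rw [← h0, hA, hB, Finset.sum_mul_sum, map_sum]
  refine Finset.sum_congr rfl fun h _ => ?_
  rw [map_sum]
  refine Finset.sum_congr rfl fun w _ => ?_
  rw [← map_mul]
  rfl

/-- The sum of a function over the subgroup generated by an involution. -/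
theorem sum_zpowers_involution {v : G} (hv : orderOf v = 2) [Fintype (Subgroup.zpowers v)]
    (F : G → ℂ) : ∑ w : Subgroup.zpowers v, F w = F 1 + F v := by
  classical
  set a : Subgroup.zpowers v := ⟨v, Subgroup.mem_zpowers v⟩ with ha
  have hne : (1 : Subgroup.zpowers v) ≠ a := fun h => by
    have h' : (1 : G) = v := congrArg Subtype.val h
    rw [← h', orderOf_one] at hv
    omega
  have huniv : (Finset.univ : Finset (Subgroup.zpowers v)) = {1, a} :=
    (Finset.eq_univ_of_card _ (by
      rw [Finset.card_pair hne, ← Nat.card_eq_fintype_card, Nat.card_zpowers, hv])).symm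
  rw [huniv, Finset.sum_pair hne]
  rfl

/-- In a perfect group every involution has an even number of eigenvalues `-1`. -/
theorem four_dvd_sub (hperf : commutator G = ⊤) (χ : Cfsg.IrrCharacter G) {x : G} (hx : x * x = 1)
    {c : ℤ} (hc : (χ : G → ℂ) x = (c : ℂ)) : (4 : ℤ) ∣ (deg χ : ℤ) - c := by
  classical
  obtain ⟨n, ρ, hirr, hρ⟩ := χ.2
  have hd : Module.finrank ℂ (Fin n → ℂ) = deg χ := by
    have h1 := deg_spec χ
    rw [← hρ, Representation.char_one] at h1
    exact_mod_cast h1
  set T : Module.End ℂ (Fin n → ℂ) := ρ x with hT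
  have hTT : T * T = 1 := by rw [hT, ← map_mul, hx, map_one]
  set f : Module.End ℂ (Fin n → ℂ) := (2 : ℂ)⁻¹ • (1 - T) with hf
  have hff : f * f = f := by
    rw [hf, smul_mul_assoc, mul_smul_comm, smul_smul,
      show (1 - T) * (1 - T) = (2 : ℂ) • (1 - T) by
        rw [mul_sub, mul_one, sub_mul, one_mul, hTT, two_smul]; abel, smul_smul]
    congr 1
    norm_num
  have hP : LinearMap.IsProj (LinearMap.range f) f :=
    ⟨fun v => LinearMap.mem_range_self f v, fun v hv => by
      obtain ⟨w, rfl⟩ := hv
      exact LinearMap.congr_fun hff w⟩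
  set m := Module.finrank ℂ (LinearMap.range f) with hm
  have htr : (c : ℂ) = (deg χ : ℂ) - 2 * m := by
    have h0 := LinearMap.IsProj.trace hP
    rw [hf, map_smul, map_sub, LinearMap.trace_one, smul_eq_mul, hd] at h0
    have : LinearMap.trace ℂ _ T = (c : ℂ) := by rw [← hc, ← hρ]; rfl
    rw [this] at h0
    rw [← hf, ← hm] at h0
    linear_combination (-2 : ℂ) * h0
  have hTf : T = 1 + (-2 : ℂ) • f := by
    rw [hf, smul_smul, show (-2 : ℂ) * 2⁻¹ = -1 by norm_num, neg_one_smul]; abel
  have hdet1 : LinearMap.det T = 1 := by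
    let φ : G →* ℂˣ := (Units.map (LinearMap.det : Module.End ℂ (Fin n → ℂ) →* ℂ)).comp ρ.toHomUnits
    have := CfsgLib.SmallGroups.BrauerFew.linear_trivial_of_perfect hperf φ
    have h := congrArg Units.val (DFunLike.congr_fun this x)
    simpa [φ, hT] using h
  have hdet2 : LinearMap.det T = (-1 : ℂ) ^ m := by
    have hprod : (1 : Module.End ℂ (Fin n → ℂ)) + (-2 : ℂ) • f =
        (Submodule.prodEquivOfIsCompl (LinearMap.range f) (LinearMap.ker f) hP.isCompl).conj
          ((-1 : ℂ) • LinearMap.id |>.prodMap LinearMap.id) := by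
      have h1 := hP.eq_conj_prodMap
      set e := Submodule.prodEquivOfIsCompl (LinearMap.range f) (LinearMap.ker f) hP.isCompl
      conv_lhs => rw [h1]
      rw [← map_smul, show (1 : Module.End ℂ (Fin n → ℂ)) = e.conj LinearMap.id by simp; rfl,
        ← map_add]
      congr 1
      refine LinearMap.ext fun z => ?_
      rcases z with ⟨a, b⟩
      simp [two_smul]
    rw [hTf, hprod, LinearEquiv.conj_apply, LinearMap.comp_assoc, LinearMap.det_conj,
      LinearMap.det_prodMap, LinearMap.det_smul, LinearMap.det_id, LinearMap.det_id, mul_one,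
      mul_one]
  have heven : Even m := by
    rcases Nat.even_or_odd m with h | h
    · exact h
    · rw [hdet1, h.neg_one_pow] at hdet2
      norm_num at hdet2
  obtain ⟨j, hj⟩ := heven
  have : c = (deg χ : ℤ) - 2 * m := by exact_mod_cast htr
  exact ⟨j, by omega⟩

end CfsgLib.SmallGroups.Order459648
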